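import Mathlib

/-!
Elementary lemmas for Sylow normalisers of large prime order: a centraliser bound, nested
normalisers, and the order of the automiser.
-/

set_option autoImplicit false

set_option linter.unusedSectionVars false
set_option linter.style.haveILetI false

namespace H19.J4Syl

open Subgroup

variable {G : Type*} [Group G] [Finite G]

theorem mem_cent_zpowers {x g : G} :
    g ∈ centralizer (zpowers x : Set G) ↔ Commute x g := by
  rw [mem_centralizer_iff]
  constructor
  · intro h; exact h x (mem_zpowers x)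
  · intro h a ha
    obtain ⟨i, rfl⟩ := mem_zpowers_iff.1 ha
    exact h.zpow_left i

/-- order of the automiser of a cyclic subgroup -/
noncomputable def aut (x : G) : ℕ := Nat.card (zpowers x).normalizerMonoidHom.range

theorem card_normalizer_eq (x : G) :
    Nat.card (normalizer (zpowers x : Set G))
      = aut x * Nat.card (centralizer (zpowers x : Set G)) := by
  have h := Subgroup.card_eq_card_quotient_mul_card_subgroup (zpowers x).normalizerMonoidHom.ker
  have h2 : Nat.card (zpowers x).normalizerMonoidHom.ker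
      = Nat.card (centralizer (zpowers x : Set G)) := by
    rw [normalizerMonoidHom_ker]
    have hle : centralizer (zpowers x : Set G) ≤ normalizer (zpowers x : Set G) :=
      Subgroup.centralizer_le_normalizer _
    exact Nat.card_congr (Subgroup.subgroupOfEquivOfLe hle).toEquiv
  rw [h, h2, aut,
    ← Nat.card_congr (QuotientGroup.quotientKerEquivRange (zpowers x).normalizerMonoidHom).toEquiv]

theorem aut_dvd {p : ℕ} (hp : p.Prime) {x : G} (hx : orderOf x = p) : aut x ∣ p - 1 := by
  have h1 : aut x ∣ Nat.card (MulAut (zpowers x)) := Subgroup.card_subgroup_dvd_card _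
  rwa [IsCyclic.card_mulAut, Nat.card_zpowers, hx, Nat.totient_prime hp] at h1

/-- an automorphism of prime order `s` induced on `zpowers x` divides the automiser order -/
theorem dvd_aut {p s r : ℕ} (hs : s.Prime) {x g : G} (hx : orderOf x = p)
    (hconj : g * x * g⁻¹ = x ^ r) (hrs : r ^ s % p = 1 % p) (hr : r % p ≠ 1 % p)
    (hcop : r.Coprime p) : s ∣ aut x := by
  have hgen : zpowers (x ^ r) = zpowers x := by
    refine Subgroup.eq_of_le_of_card_ge (zpowers_le.2 (pow_mem (mem_zpowers x) r)) ?_
    rw [Nat.card_zpowers, Nat.card_zpowers, Nat.Coprime.orderOf_pow]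
    rw [hx]; exact hcop.symm
  have hg : g ∈ normalizer (zpowers x : Set G) := by
    refine mem_normalizer_fintype ?_
    intro n hn
    obtain ⟨i, rfl⟩ := mem_zpowers_iff.1 hn
    rw [← conj_zpow, hconj]
    exact zpow_mem (pow_mem (mem_zpowers x) r) i
  let N := normalizer (zpowers x : Set G)
  let a := (zpowers x).normalizerMonoidHom ⟨g, hg⟩
  have hiter : ∀ n : ℕ, g ^ n * x * (g ^ n)⁻¹ = x ^ (r ^ n) := by
    intro n
    induction n with
    | zero => simp
    | succ n ih =>
      have e : g ^ (n + 1) * x * (g ^ (n + 1))⁻¹ = g ^ n * (g * x * g⁻¹) * (g ^ n)⁻¹ := by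
        rw [pow_succ]; group
      rw [e, hconj, ← conj_pow, ih, ← pow_mul, pow_succ]
  have ha : a ^ s = 1 := by
    show ((zpowers x).normalizerMonoidHom ⟨g, hg⟩) ^ s = 1
    rw [← map_pow, ← MonoidHom.mem_ker, normalizerMonoidHom_ker, Subgroup.mem_subgroupOf,
      mem_cent_zpowers]
    have h := hiter s
    have h' : x ^ (r ^ s) = x := by
      conv_rhs => rw [← pow_one x]
      rw [pow_eq_pow_iff_modEq, hx]
      exact hrs
    rw [h', mul_inv_eq_iff_eq_mul] at h
    exact h.symm
  have ha1 : a ≠ 1 := by
    intro h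
    have h1 : (⟨g, hg⟩ : N) ∈ (zpowers x).normalizerMonoidHom.ker := h
    rw [normalizerMonoidHom_ker, Subgroup.mem_subgroupOf, mem_cent_zpowers] at h1
    have h1' : x * g = g * x := h1
    have h2 : x ^ r = x ^ 1 := by
      rw [← hconj, ← h1', pow_one, mul_inv_cancel_right]
    rw [pow_eq_pow_iff_modEq, hx] at h2
    exact hr h2
  have : orderOf a = s := by
    haveI : Fact s.Prime := ⟨hs⟩
    exact orderOf_eq_prime ha ha1
  rw [← this]
  exact Subgroup.orderOf_dvd_natCard (zpowers x).normalizerMonoidHom.range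
    (MonoidHom.mem_range.2 ⟨⟨g, hg⟩, rfl⟩)

/-- conjugation transports centraliser order and automiser -/
theorem conj_invariants {x y : G} (g : G)
    (h : (zpowers x).map (MulAut.conj g).toMonoidHom = zpowers y) :
    Nat.card (centralizer (zpowers x : Set G)) = Nat.card (centralizer (zpowers y : Set G)) ∧
    aut x = aut y := by
  have hC : (centralizer (zpowers x : Set G)).map (MulAut.conj g).toMonoidHom
      = centralizer (zpowers y : Set G) := by
    ext a
    rw [← h, Subgroup.mem_map_equiv, mem_centralizer_iff, mem_centralizer_iff]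
    constructor
    · intro H b hb
      rw [SetLike.mem_coe, Subgroup.mem_map_equiv] at hb
      have h1 := congrArg (MulAut.conj g : G ≃* G) (H _ hb)
      simp only [map_mul] at h1
      rw [MulEquiv.apply_symm_apply, MulEquiv.apply_symm_apply] at h1
      exact h1
    · intro H b hb
      have hb' : MulAut.conj g b ∈ ((zpowers x).map (MulAut.conj g).toMonoidHom : Set G) := by
        rw [SetLike.mem_coe, Subgroup.mem_map_equiv, MulEquiv.symm_apply_apply]; exact hb
      have h1 := congrArg (MulAut.conj g).symm (H (MulAut.conj g b) hb')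
      simp only [map_mul, MulEquiv.symm_apply_apply] at h1
      exact h1
  have hN := Subgroup.map_equiv_normalizer_eq (zpowers x) (MulAut.conj g)
  rw [h] at hN
  have c1 : Nat.card (centralizer (zpowers x : Set G))
      = Nat.card (centralizer (zpowers y : Set G)) := by
    rw [← hC, Subgroup.card_map_of_injective (MulEquiv.injective _)]
  refine ⟨c1, ?_⟩
  have c2 : Nat.card (normalizer (zpowers x : Set G)) = Nat.card (normalizer (zpowers y : Set G)) := by
    rw [← hN, Subgroup.card_map_of_injective (MulEquiv.injective _)]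
  rw [card_normalizer_eq, card_normalizer_eq, c1] at c2
  exact Nat.eq_of_mul_eq_mul_right Nat.card_pos c2

theorem exists_conj {p : ℕ} [Fact p.Prime] (h2 : ¬ p ^ 2 ∣ Nat.card G) {x y : G}
    (hx : orderOf x = p) (hy : orderOf y = p) :
    ∃ g, (zpowers x).map (MulAut.conj g).toMonoidHom = zpowers y := by
  have hd : p ∣ Nat.card G := hx ▸ orderOf_dvd_natCard x
  have hf : (Nat.card G).factorization p = 1 := by
    have hp : p.Prime := Fact.out
    have hn : Nat.card G ≠ 0 := Nat.card_pos.ne'
    have a1 := (hp.dvd_iff_one_le_factorization hn).1 hd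
    have a2 : ¬ 2 ≤ (Nat.card G).factorization p := fun h =>
      h2 ((Nat.Prime.pow_dvd_iff_le_factorization hp hn).2 h)
    omega
  let P : Sylow p G := Sylow.ofCard (zpowers x) (by rw [Nat.card_zpowers, hx, hf, pow_one])
  let Q : Sylow p G := Sylow.ofCard (zpowers y) (by rw [Nat.card_zpowers, hy, hf, pow_one])
  obtain ⟨g, hg⟩ := MulAction.exists_smul_eq G P Q
  refine ⟨g, ?_⟩
  have h : ((g • P : Sylow p G) : Subgroup G) = (Q : Subgroup G) := congrArg _ hg
  rw [Sylow.coe_subgroup_smul] at h
  exact h

/-- centraliser of an element `y` of prime order `q` inside a group whose order is prime to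
`q - 1` has order divisible by the order of the group, if no proper fixed-point-free prime power
can occur -/
theorem card_dvd_cent {K : Type*} [Group K] [Finite K] {q : ℕ} (hq : q.Prime)
    (h2 : ¬ q ^ 2 ∣ Nat.card K) (hco : (Nat.card K).Coprime (q - 1)) {y : K}
    (hy : orderOf y = q)
    (hfix : ∀ r, r.Prime → r ≠ q → ∀ t, 1 ≤ t → r ^ t ∣ Nat.card K → r ^ t % q ≠ 1) :
    Nat.card K ∣ Nat.card (centralizer (zpowers y : Set K)) := by
  haveI : Fact q.Prime := ⟨hq⟩
  have hK : Nat.card K ≠ 0 := Nat.card_pos.ne'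
  have hd : q ∣ Nat.card K := hy ▸ orderOf_dvd_natCard y
  have hf : (Nat.card K).factorization q = 1 := by
    have a1 := (hq.dvd_iff_one_le_factorization hK).1 hd
    have a2 : ¬ 2 ≤ (Nat.card K).factorization q := fun h =>
      h2 ((Nat.Prime.pow_dvd_iff_le_factorization hq hK).2 h)
    omega
  let P : Sylow q K := Sylow.ofCard (zpowers y) (by rw [Nat.card_zpowers, hy, hf, pow_one])
  have hP : (normalizer (zpowers y : Set K) : Subgroup K) ≤ centralizer (zpowers y : Set K) := by
    have h1 : aut y ∣ q - 1 := aut_dvd hq hy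
    have h2 : aut y ∣ Nat.card K :=
      (Dvd.intro _ (card_normalizer_eq y).symm).trans (Subgroup.card_subgroup_dvd_card _)
    have h3 : aut y = 1 := Nat.eq_one_of_dvd_coprimes hco h2 h1
    have h4 := card_normalizer_eq y
    rw [h3, one_mul] at h4
    rw [Subgroup.eq_of_le_of_card_ge (Subgroup.centralizer_le_normalizer _) h4.le]
  let M := (MonoidHom.transferSylow P hP).ker
  have hc : M.IsComplement' (zpowers y) := MonoidHom.ker_transferSylow_isComplement' P hP
  have hMi : M.index = q := by rw [hc.symm.index_eq_card, Nat.card_zpowers, hy]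
  refine Nat.dvd_iff_prime_pow_dvd_dvd _ _ |>.2 ?_
  intro r j hr hrj
  rcases Nat.eq_zero_or_pos j with hj0 | hj
  · subst hj0; simp
  rcases eq_or_ne r q with hrq | hrq
  · subst hrq
    have : j ≤ 1 := by
      rw [← hf]; exact (Nat.Prime.pow_dvd_iff_le_factorization hq hK).1 hrj
    have hj1 : j = 1 := by omega
    subst hj1
    rw [pow_one, ← hy]
    exact Subgroup.orderOf_dvd_natCard _ (mem_cent_zpowers.2 (Commute.refl y))
  haveI : Fact r.Prime := ⟨hr⟩
  have hrM : r ^ j ∣ Nat.card M := by
    have h := Subgroup.card_mul_index M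
    rw [hMi] at h
    rw [← h] at hrj
    exact (Nat.Coprime.pow_left j ((Nat.coprime_primes hr hq).2 hrq)).dvd_of_dvd_mul_right hrj
  obtain ⟨R⟩ : Nonempty (Sylow r M) := inferInstance
  let R' : Subgroup K := (R : Subgroup M).map M.subtype
  have hR' : r ^ j ∣ Nat.card R' := by
    rw [Subgroup.card_map_of_injective M.subtype_injective]
    exact R.pow_dvd_card_of_pow_dvd_card hrM
  have hsup : normalizer (R' : Set K) ⊔ M = ⊤ := Sylow.normalizer_sup_eq_top R
  have hqN : q ∣ Nat.card (normalizer (R' : Set K)) := by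
    have h := Subgroup.relIndex_sup_right (K := M) (H := normalizer (R' : Set K))
    rw [hsup, Subgroup.relIndex_top_right, hMi] at h
    rw [h]
    exact Subgroup.relIndex_dvd_card _ _
  obtain ⟨b, hb⟩ := exists_prime_orderOf_dvd_card' q hqN
  let σ := R'.normalizerMonoidHom b
  have hσq : σ ^ q = 1 := by
    rw [← map_pow, ← hb, pow_orderOf_eq_one, map_one]
  have hR'card : Nat.card R' ∣ Nat.card K := Subgroup.card_subgroup_dvd_card _
  have hR'p : IsPGroup r R' := R.2.map M.subtype
  have hbR : ∀ a : R', σ a = a := by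
    have hpow : IsPGroup q (zpowers σ) := by
      intro a
      refine ⟨1, ?_⟩
      obtain ⟨a, ha⟩ := a
      obtain ⟨i, rfl⟩ := mem_zpowers_iff.1 ha
      apply Subtype.ext
      rw [pow_one, SubmonoidClass.coe_pow, ← zpow_natCast, ← zpow_mul, mul_comm, zpow_mul,
        zpow_natCast, hσq, one_zpow]
      rfl
    let F : Subgroup R' := MonoidHom.eqLocus σ.toMonoidHom (MonoidHom.id R')
    have hmod := hpow.card_modEq_card_fixedPoints R'
    have hfixed : Nat.card (MulAction.fixedPoints (zpowers σ) R') = Nat.card F := by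
      refine Nat.card_congr (Equiv.subtypeEquivRight fun a => ?_)
      constructor
      · intro h; exact h ⟨σ, mem_zpowers σ⟩
      · intro h τ
        obtain ⟨τ, hτ⟩ := τ
        have hst : σ ∈ MulAction.stabilizer (MulAut R') a := h
        exact (zpowers_le.2 hst) hτ
    rw [hfixed] at hmod
    obtain ⟨n, hn⟩ := hR'p.exists_card_eq
    obtain ⟨m, hm, hm'⟩ := (Nat.dvd_prime_pow hr).1 (hn ▸ Subgroup.card_subgroup_dvd_card F)
    rw [hn, hm'] at hmod
    have hmn : m = n := by
      by_contra hne
      have hlt : 1 ≤ n - m := by omega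
      apply hfix r hr hrq (n - m) hlt
        ((pow_dvd_pow r (Nat.sub_le n m)).trans (hn ▸ hR'card))
      have hcop : Nat.Coprime q (r ^ m) :=
        Nat.Coprime.pow_right m ((Nat.coprime_primes hq hr).2 (Ne.symm hrq))
      have h' : r ^ m * r ^ (n - m) ≡ r ^ m * 1 [MOD q] := by
        rw [← pow_add, Nat.add_sub_cancel' hm, mul_one]; exact hmod
      have h'' := Nat.ModEq.cancel_left_of_coprime hcop h'
      rw [h'', Nat.one_mod_eq_one]
      exact hq.ne_one
    have hF : F = ⊤ := Subgroup.eq_top_of_card_eq _ (by rw [hn, hm', hmn])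
    intro a
    have : a ∈ F := hF ▸ Subgroup.mem_top a
    exact this
  have hRC : R' ≤ centralizer (zpowers (b : K) : Set K) := by
    intro a ha
    rw [mem_cent_zpowers]
    have h : (b : K) * a * (b : K)⁻¹ = a := congrArg Subtype.val (hbR ⟨a, ha⟩)
    rw [mul_inv_eq_iff_eq_mul] at h
    exact h
  have hb' : orderOf (b : K) = q := by rw [Subgroup.orderOf_coe]; exact hb
  obtain ⟨g, hg⟩ := exists_conj (fun h => h2 h) hb' hy
  rw [← (conj_invariants g hg).1]
  exact hR'.trans (Subgroup.card_dvd_of_le hRC)

/-- commuting elements of prime orders whose common centraliser is cyclic of order `p * q` -/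
theorem normalizer_le_normalizer {p q : ℕ} (hp : p.Prime) (hq : q.Prime) (hpq : p ≠ q) {x y : G}
    (hx : orderOf x = p) (hy : orderOf y = q) (hc : Commute x y)
    (hC : Nat.card (centralizer (zpowers x : Set G)) = p * q) :
    normalizer (zpowers x : Set G) ≤ normalizer (zpowers y : Set G) := by
  have hxy : orderOf (x * y) = p * q := by
    rw [hc.orderOf_mul_eq_mul_orderOf_of_coprime (by rw [hx, hy]; exact (Nat.coprime_primes hp hq).2 hpq),
      hx, hy]
  have hT : zpowers (x * y) = centralizer (zpowers x : Set G) := by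
    refine Subgroup.eq_of_le_of_card_ge (zpowers_le.2 (mem_cent_zpowers.2
      ((Commute.refl x).mul_right hc))) ?_
    rw [hC, Nat.card_zpowers, hxy]
  intro g hg
  refine mem_normalizer_fintype ?_
  intro n hn
  obtain ⟨i, rfl⟩ := mem_zpowers_iff.1 hn
  rw [← conj_zpow]
  refine zpow_mem ?_ i
  have hmem : g * y * g⁻¹ ∈ centralizer (zpowers x : Set G) := by
    rw [mem_centralizer_iff]
    intro a ha
    have ha' : g⁻¹ * a * g ∈ zpowers x := (mem_normalizer_iff''.1 hg a).1 ha
    have h := (mem_centralizer_iff.1 (mem_cent_zpowers.2 hc)) _ ha'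
    calc a * (g * y * g⁻¹) = g * ((g⁻¹ * a * g) * y) * g⁻¹ := by group
      _ = g * (y * (g⁻¹ * a * g)) * g⁻¹ := by rw [h]
      _ = g * y * g⁻¹ * a := by group
  rw [← hT] at hmem
  obtain ⟨k, hk⟩ := mem_zpowers_iff.1 hmem
  have hq1 : (x * y) ^ (k * q) = 1 := by
    rw [zpow_mul, hk, conj_zpow, zpow_natCast, ← hy, pow_orderOf_eq_one, mul_one, mul_inv_cancel]
  rw [hc.mul_zpow] at hk
  have hyq : y ^ (k * q) = 1 := by
    rw [mul_comm, zpow_mul, zpow_natCast, ← hy, pow_orderOf_eq_one, one_zpow]
  rw [hc.mul_zpow, hyq, mul_one] at hq1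
  have hpk : (p : ℤ) ∣ k := by
    have h := orderOf_dvd_iff_zpow_eq_one.2 hq1
    rw [hx] at h
    rcases (Nat.prime_iff_prime_int.1 hp).dvd_mul.1 h with h | h
    · exact h
    · exact absurd ((Nat.prime_dvd_prime_iff_eq hp hq).1 (Int.natCast_dvd_natCast.1 h)) hpq
  have hxk : x ^ k = 1 := orderOf_dvd_iff_zpow_eq_one.1 (by rw [hx]; exact hpk)
  rw [hxk, one_mul] at hk
  exact hk ▸ zpow_mem (mem_zpowers y) k

end H19.J4Syl
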