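import Mathlib

/-!
The finite table behind the normalisers of Sylow subgroups of orders 23 to 43: the possible
centraliser and automiser orders, filtered by pairwise conditions.
-/

set_option autoImplicit false

namespace H19.J4Syl

/-- order of the fourth Janko group -/
def ordJ : ℕ := 2 ^ 21 * 3 ^ 3 * 5 * 7 * 11 ^ 3 * 23 * 29 * 31 * 37 * 43

def bigs : List ℕ := [23, 29, 31, 37, 43]

def need (p : ℕ) : ℕ := if p = 23 then 11 else if p = 31 then 10 else 1

/-- products of an element of `A` and one of `B` -/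
def mulL (A B : List ℕ) : List ℕ := A.flatMap fun a => B.map fun b => a * b

/-- divisors of the part of the order prime to 210 -/
def divs : List ℕ :=
  mulL (mulL (mulL (mulL (mulL [1, 11, 121, 1331] [1, 23]) [1, 29]) [1, 31]) [1, 37]) [1, 43]

/-- options (centraliser order, automiser order) -/
def opts (p : ℕ) : List (ℕ × ℕ) :=
  ((divs.filter fun C => C % p == 0).flatMap fun C =>
    ((List.range p).map fun e => (C, e))).filter fun a =>
      (p - 1) % a.2 == 0 && a.2 % need p == 0 &&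
      (a.1 / p * a.2) % p == (ordJ / p) % p

/-- conditions between two primes -/
def okPair (p q : ℕ) (a b : ℕ × ℕ) : Bool :=
  (!(q != 23 && a.1 % q == 0) || b.1 % a.1 == 0) &&
  (!(a.1 % q == 0) || b.1 % p == 0) &&
  (!(q != 23 && a.1 == p * q && b.1 == p * q) || a.2 == b.2)

def step (L : ℕ → List (ℕ × ℕ)) (p : ℕ) : List (ℕ × ℕ) :=
  (L p).filter fun a => bigs.all fun q => q == p ||
    (L q).any fun b => okPair p q a b && okPair q p b a

/-- lists as a table, so that they are evaluated once -/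
def ofTable (T : List (List (ℕ × ℕ))) (p : ℕ) : List (ℕ × ℕ) :=
  ((bigs.zip T).find? fun x => x.1 == p).elim [] Prod.snd

def table0 : List (List (ℕ × ℕ)) := bigs.map opts
def next (T : List (List (ℕ × ℕ))) : List (List (ℕ × ℕ)) := bigs.map (step (ofTable T))

theorem final : next (next (next table0)) =
    [[(23, 22)], [(29, 28)], [(31, 10)], [(37, 12)], [(43, 14)]] := by
  decide +kernel

theorem ofTable_map (f : ℕ → List (ℕ × ℕ)) : ∀ p ∈ bigs, ofTable (bigs.map f) p = f p := by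
  intro p hp
  simp only [bigs, List.mem_cons, List.not_mem_nil, or_false] at hp
  rcases hp with rfl | rfl | rfl | rfl | rfl <;> rfl

theorem mem_next {T : List (List (ℕ × ℕ))} {s : ℕ → ℕ × ℕ}
    (hs : ∀ p ∈ bigs, s p ∈ ofTable T p)
    (hok : ∀ p ∈ bigs, ∀ q ∈ bigs, p ≠ q → okPair p q (s p) (s q) = true) :
    ∀ p ∈ bigs, s p ∈ ofTable (next T) p := by
  intro p hp
  rw [next, ofTable_map _ p hp, step, List.mem_filter]
  refine ⟨hs p hp, ?_⟩
  rw [List.all_eq_true]
  intro q hq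
  rcases eq_or_ne q p with h | h
  · simp [h]
  · rw [Bool.or_eq_true]
    refine Or.inr ?_
    rw [List.any_eq_true]
    refine ⟨s q, hs q hq, ?_⟩
    rw [Bool.and_eq_true]
    exact ⟨hok p hp q hq (Ne.symm h), hok q hq p hp h⟩

theorem solve {s : ℕ → ℕ × ℕ} (h0 : ∀ p ∈ bigs, s p ∈ opts p)
    (hok : ∀ p ∈ bigs, ∀ q ∈ bigs, p ≠ q → okPair p q (s p) (s q) = true) :
    s 23 = (23, 22) ∧ s 29 = (29, 28) ∧ s 31 = (31, 10) ∧ s 37 = (37, 12) ∧ s 43 = (43, 14) := by
  have h1 : ∀ p ∈ bigs, s p ∈ ofTable table0 p := fun p hp => by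
    rw [table0, ofTable_map _ p hp]; exact h0 p hp
  have h := mem_next (mem_next (mem_next h1 hok) hok) hok
  rw [final] at h
  refine ⟨?_, ?_, ?_, ?_, ?_⟩
  · exact List.mem_singleton.1 (h 23 (by decide))
  · exact List.mem_singleton.1 (h 29 (by decide))
  · exact List.mem_singleton.1 (h 31 (by decide))
  · exact List.mem_singleton.1 (h 37 (by decide))
  · exact List.mem_singleton.1 (h 43 (by decide))

theorem mem_mulL {A B : List ℕ} {m n : ℕ} (hA : ∀ d, d ∣ m → d ∈ A) (hB : ∀ d, d ∣ n → d ∈ B) :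
    ∀ d, d ∣ m * n → d ∈ mulL A B := by
  intro d hd
  obtain ⟨a, b, ha, hb, rfl⟩ := Nat.dvd_mul.1 hd
  exact List.mem_flatMap.2 ⟨a, hA a ha, List.mem_map.2 ⟨b, hB b hb, rfl⟩⟩

theorem mem_divs : ∀ d, d ∣ 11 ^ 3 * 23 * 29 * 31 * 37 * 43 → d ∈ divs := by
  have hp : ∀ p : ℕ, p.Prime → ∀ d, d ∣ p → d ∈ [1, p] := by
    intro p hp d hd
    rcases (Nat.dvd_prime hp).1 hd with h | h <;> simp [h]
  have h11 : ∀ d, d ∣ 11 ^ 3 → d ∈ [1, 11, 121, 1331] := by
    intro d hd
    obtain ⟨k, hk, rfl⟩ := (Nat.dvd_prime_pow (by norm_num : Nat.Prime 11)).1 hd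
    interval_cases k <;> simp
  exact mem_mulL (mem_mulL (mem_mulL (mem_mulL (mem_mulL h11 (hp 23 (by norm_num)))
    (hp 29 (by norm_num))) (hp 31 (by norm_num))) (hp 37 (by norm_num))) (hp 43 (by norm_num))

end H19.J4Syl
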