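import Mathlib
import Cfsg.Agent.H19.J4Sylow.Cent
import Cfsg.Agent.H19.J4Sylow.Table

/-!
Sylow subgroups of orders 23, 29, 31, 37, 43 in a group of the order of the fourth Janko group:
self-centralising, with automisers of orders 22, 28, 10, 12, 14. Inputs: the order, the absence
of commuting elements of small and large prime order, and three normalising pairs.
-/

set_option autoImplicit false
set_option linter.unusedSectionVars false
set_option linter.style.haveILetI false

namespace H19.J4Syl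

open Subgroup

variable {G : Type*} [Group G] [Finite G]

/-- no element of one of the five large prime orders commutes with one of order 2, 3, 5 or 7 -/
def SmallFree (G : Type*) [Group G] : Prop :=
  ∀ p ∈ bigs, ∀ r ∈ [2, 3, 5, 7], ∀ x y : G, orderOf x = p → orderOf y = r → ¬ Commute x y

/-- an element of order `p` sent to its `r`-th power by conjugation -/
def Twisted (G : Type*) [Group G] (p r : ℕ) : Prop :=
  ∃ x g : G, orderOf x = p ∧ g * x * g⁻¹ = x ^ r

theorem bigs_prime : ∀ p ∈ bigs, p.Prime := by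
  intro p hp
  simp only [bigs, List.mem_cons, List.not_mem_nil, or_false] at hp
  rcases hp with rfl | rfl | rfl | rfl | rfl <;> norm_num

theorem dvd_core {C : ℕ} (hC : C ∣ ordJ) (h : ∀ r ∈ [2, 3, 5, 7], ¬ r ∣ C) :
    C ∣ 11 ^ 3 * 23 * 29 * 31 * 37 * 43 := by
  have cop : ∀ r ∈ [2, 3, 5, 7], ∀ k : ℕ, C.Coprime (r ^ k) := by
    intro r hr k
    refine (Nat.Coprime.pow_left k ?_).symm
    have hrp : r.Prime := by
      simp only [List.mem_cons, List.not_mem_nil, or_false] at hr
      rcases hr with rfl | rfl | rfl | rfl <;> norm_num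
    exact (hrp.coprime_iff_not_dvd).2 (h r hr)
  have hcop : C.Coprime (2 ^ 21 * 3 ^ 3 * 5 ^ 1 * 7 ^ 1) :=
    Nat.Coprime.mul_right (Nat.Coprime.mul_right (Nat.Coprime.mul_right (cop 2 (by simp) 21)
      (cop 3 (by simp) 3)) (cop 5 (by simp) 1)) (cop 7 (by simp) 1)
  refine hcop.dvd_of_dvd_mul_left ?_
  have e : 2 ^ 21 * 3 ^ 3 * 5 ^ 1 * 7 ^ 1 * (11 ^ 3 * 23 * 29 * 31 * 37 * 43) = ordJ := by
    decide +kernel
  rw [e]; exact hC

theorem not_sq_dvd (hN : Nat.card G = ordJ) {p : ℕ} (hp : p ∈ bigs) : ¬ p ^ 2 ∣ Nat.card G := by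
  have h : ∀ q ∈ bigs, ¬ q ^ 2 ∣ ordJ := by decide +kernel
  rw [hN]; exact h p hp

theorem cent_mem_divs (hN : Nat.card G = ordJ) (hS : SmallFree G) {p : ℕ} (hp : p ∈ bigs) {x : G}
    (hx : orderOf x = p) : Nat.card (centralizer (zpowers x : Set G)) ∈ divs := by
  refine mem_divs _ (dvd_core (hN ▸ Subgroup.card_subgroup_dvd_card _) ?_)
  intro r hr hd
  have hrp : r.Prime := by
    simp only [List.mem_cons, List.not_mem_nil, or_false] at hr
    rcases hr with rfl | rfl | rfl | rfl <;> norm_num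
  haveI : Fact r.Prime := ⟨hrp⟩
  obtain ⟨y, hy⟩ := exists_prime_orderOf_dvd_card' r hd
  exact hS p hp r hr x y hx (by rw [Subgroup.orderOf_coe]; exact hy) (mem_cent_zpowers.1 y.2)

/-- the whole argument -/
theorem sylow_facts (hN : Nat.card G = ordJ) (hS : SmallFree G) (w23 : Twisted G 23 2)
    (w31 : Twisted G 31 2) (w31' : Twisted G 31 30) :
    ∀ p ∈ bigs, ∀ x : G, orderOf x = p →
      Nat.card (centralizer (zpowers x : Set G)) = p ∧
      aut x = (if p = 23 then 22 else if p = 29 then 28 else if p = 31 then 10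
        else if p = 37 then 12 else 14) := by
  classical
  have hdvd : ∀ p ∈ bigs, p ∣ Nat.card G := by
    have h : ∀ q ∈ bigs, q ∣ ordJ := by decide +kernel
    intro p hp; rw [hN]; exact h p hp
  have hex : ∀ p, ∃ x : G, p ∈ bigs → orderOf x = p := by
    intro p
    by_cases hp : p ∈ bigs
    · haveI : Fact p.Prime := ⟨bigs_prime p hp⟩
      obtain ⟨x, hx⟩ := exists_prime_orderOf_dvd_card' p (hdvd p hp)
      exact ⟨x, fun _ => hx⟩
    · exact ⟨1, fun h => absurd h hp⟩
  choose X hX using hex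
  let s : ℕ → ℕ × ℕ := fun p =>
    (Nat.card (centralizer (zpowers (X p) : Set G)), aut (X p))
  -- invariance
  have hinv : ∀ p ∈ bigs, ∀ x : G, orderOf x = p →
      Nat.card (centralizer (zpowers x : Set G)) = (s p).1 ∧ aut x = (s p).2 := by
    intro p hp x hx
    haveI : Fact p.Prime := ⟨bigs_prime p hp⟩
    obtain ⟨g, hg⟩ := exists_conj (not_sq_dvd hN hp) hx (hX p hp)
    exact conj_invariants g hg
  have hdiv : ∀ p ∈ bigs, (s p).1 ∈ divs := fun p hp => cent_mem_divs hN hS hp (hX p hp)
  have h0 : ∀ p ∈ bigs, s p ∈ opts p := by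
    intro p hp
    have hpp := bigs_prime p hp
    haveI : Fact p.Prime := ⟨hpp⟩
    have hpC : p ∣ (s p).1 := by
      show p ∣ Nat.card _
      conv_lhs => rw [← hX p hp]
      exact Subgroup.orderOf_dvd_natCard _ (mem_cent_zpowers.2 (Commute.refl _))
    have he : (s p).2 ∣ p - 1 := aut_dvd hpp (hX p hp)
    have hep : (s p).2 < p := by
      have := Nat.le_of_dvd (by have := hpp.two_le; omega) he
      have := hpp.two_le
      omega
    have hneed : (s p).2 % need p = 0 := by
      simp only [need]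
      split_ifs with h1 h2
      · subst h1
        obtain ⟨x, g, hx, hg⟩ := w23
        rw [← (hinv 23 hp x hx).2]
        exact Nat.mod_eq_zero_of_dvd (dvd_aut (s := 11) (r := 2) (by norm_num) hx hg (by decide)
          (by decide) (by decide))
      · subst h2
        obtain ⟨x, g, hx, hg⟩ := w31
        obtain ⟨x', g', hx', hg'⟩ := w31'
        have a5 : 5 ∣ (s 31).2 := (hinv 31 hp x hx).2 ▸
          dvd_aut (s := 5) (r := 2) (by norm_num) hx hg (by decide) (by decide) (by decide)
        have a2 : 2 ∣ (s 31).2 := (hinv 31 hp x' hx').2 ▸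
          dvd_aut (s := 2) (r := 30) (by norm_num) hx' hg' (by decide) (by decide) (by decide)
        exact Nat.mod_eq_zero_of_dvd (Nat.Coprime.mul_dvd_of_dvd_of_dvd (by decide) a2 a5)
      · exact Nat.mod_one _
    have hcong : ((s p).1 / p * (s p).2) % p = (ordJ / p) % p := by
      let P : Sylow p G := Sylow.ofCard (zpowers (X p)) (by
        have hf : (Nat.card G).factorization p = 1 := by
          have hn : Nat.card G ≠ 0 := Nat.card_pos.ne'
          have a1 := (hpp.dvd_iff_one_le_factorization hn).1 (hdvd p hp)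
          have a2 : ¬ 2 ≤ (Nat.card G).factorization p := fun h =>
            not_sq_dvd hN hp ((Nat.Prime.pow_dvd_iff_le_factorization hpp hn).2 h)
          omega
        rw [Nat.card_zpowers, hX p hp, hf, pow_one])
      have hn1 : Nat.card (Sylow p G) ≡ 1 [MOD p] := card_sylow_modEq_one p G
      have hidx : Nat.card (Sylow p G) = (normalizer (zpowers (X p) : Set G)).index :=
        P.card_eq_index_normalizer
      have hmul := (normalizer (zpowers (X p) : Set G)).card_mul_index
      rw [card_normalizer_eq, ← hidx, hN] at hmul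
      obtain ⟨c, hc⟩ := hpC
      have e1 : ordJ / p = c * (s p).2 * Nat.card (Sylow p G) := by
        rw [← hmul]
        show (s p).2 * (s p).1 * _ / p = _
        rw [hc, show (s p).2 * (p * c) * Nat.card (Sylow p G)
          = p * (c * (s p).2 * Nat.card (Sylow p G)) by ring,
          Nat.mul_div_cancel_left _ hpp.pos]
      rw [e1, hc, Nat.mul_div_cancel_left _ hpp.pos]
      have := (Nat.ModEq.mul_left (c * (s p).2) hn1)
      rw [mul_one] at this
      exact this.symm
    simp only [opts, List.mem_filter, List.mem_flatMap, List.mem_map, List.mem_range,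
      Bool.and_eq_true, beq_iff_eq]
    exact ⟨⟨(s p).1, ⟨hdiv p hp, Nat.mod_eq_zero_of_dvd hpC⟩, (s p).2, hep, rfl⟩,
      ⟨Nat.mod_eq_zero_of_dvd he, hneed⟩, hcong⟩
  -- an element of order `q` centralising the chosen one of order `p`
  have hget : ∀ p ∈ bigs, ∀ q ∈ bigs, q ∣ (s p).1 →
      ∃ y : G, orderOf y = q ∧ Commute (X p) y := by
    intro p _ q hq hd
    haveI : Fact q.Prime := ⟨bigs_prime q hq⟩
    obtain ⟨y, hy⟩ := exists_prime_orderOf_dvd_card' q hd
    exact ⟨y, by rw [Subgroup.orderOf_coe]; exact hy, mem_cent_zpowers.1 y.2⟩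
  have hsymm : ∀ p ∈ bigs, ∀ q ∈ bigs, q ∣ (s p).1 → p ∣ (s q).1 := by
    intro p hp q hq hd
    obtain ⟨y, hy, hc⟩ := hget p hp q hq hd
    rw [← (hinv q hq y hy).1, ← hX p hp]
    exact Subgroup.orderOf_dvd_natCard _ (mem_cent_zpowers.2 hc.symm)
  have hbig : ∀ p ∈ bigs, ∀ q ∈ bigs, q ≠ 23 → q ∣ (s p).1 → (s p).1 ∣ (s q).1 := by
    intro p hp q hq h23 hd
    haveI : Fact q.Prime := ⟨bigs_prime q hq⟩
    let K := centralizer (zpowers (X p) : Set G)
    obtain ⟨y, hy⟩ := exists_prime_orderOf_dvd_card' q (hd : q ∣ Nat.card K)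
    have key : ∀ C ∈ divs, ∀ q ∈ bigs, q ≠ 23 → Nat.Coprime C (q - 1) := by decide +kernel
    have hB : Nat.card K ∣ 11 ^ 3 * 23 * 29 * 31 * 37 * 43 := by
      have : ∀ C ∈ divs, C ∣ 11 ^ 3 * 23 * 29 * 31 * 37 * 43 := by decide +kernel
      exact this _ (hdiv p hp)
    have h := card_dvd_cent (K := K) (bigs_prime q hq)
      (fun h => not_sq_dvd hN hq (h.trans (Subgroup.card_subgroup_dvd_card K)))
      (key _ (hdiv p hp) q hq h23) hy ?_
    · refine h.trans ?_
      rw [← (hinv q hq (y : G) (by rw [Subgroup.orderOf_coe]; exact hy)).1]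
      refine (Subgroup.card_map_of_injective K.subtype_injective).symm.dvd.trans
        (Subgroup.card_dvd_of_le ?_)
      rintro a ⟨b, hb, rfl⟩
      rw [SetLike.mem_coe, mem_cent_zpowers] at hb
      rw [mem_cent_zpowers]
      exact congrArg Subtype.val hb
    · intro r hr hrq t ht hrt
      have hd' : r ^ t ∈ divs := mem_divs _ (hrt.trans hB)
      have fact1 : ∀ d ∈ divs, ∀ q ∈ bigs, q ≠ 23 → d % q = 1 → d ≠ 1 →
          d ∉ [11, 121, 1331, 23, 29, 31, 37, 43] := by decide +kernel
      intro hmod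
      refine fact1 _ hd' q hq h23 hmod (Nat.one_lt_pow (by omega) hr.one_lt).ne' ?_
      have hrd : r ∣ 11 ^ 3 * 23 * 29 * 31 * 37 * 43 := (dvd_pow_self r (by omega)).trans (hrt.trans hB)
      have pl : ∀ d ∈ divs, d ∈ [11, 23, 29, 31, 37, 43] ∨ d = 1 ∨
          ∃ a ∈ [11, 23, 29, 31, 37, 43], a ∣ d ∧ a ≠ d := by decide +kernel
      have hr' : r ∈ [11, 23, 29, 31, 37, 43] := by
        rcases pl r (mem_divs _ hrd) with h | h | ⟨a, ha, had, hne⟩
        · exact h
        · exact absurd h hr.ne_one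
        · rcases (Nat.dvd_prime hr).1 had with h | h
          · subst h; simp at ha
          · exact absurd h hne
      have tbl : ∀ d ∈ divs, ∀ a ∈ [11, 23, 29, 31, 37, 43],
          d ∈ [11, 121, 1331, 23, 29, 31, 37, 43] ∨ d = 1 ∨
          ∃ b ∈ [11, 23, 29, 31, 37, 43], b ∣ d ∧ b ≠ a := by decide +kernel
      rcases tbl _ hd' r hr' with h | h | ⟨b, hb, hbd, hne⟩
      · exact h
      · exact absurd h (Nat.one_lt_pow (by omega) hr.one_lt).ne'
      · have hbp : b.Prime := by
          simp only [List.mem_cons, List.not_mem_nil, or_false] at hb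
          rcases hb with rfl | rfl | rfl | rfl | rfl | rfl <;> norm_num
        exact absurd ((Nat.prime_dvd_prime_iff_eq hbp hr).1 (hbp.dvd_of_dvd_pow hbd)) hne
  have hok : ∀ p ∈ bigs, ∀ q ∈ bigs, p ≠ q → okPair p q (s p) (s q) = true := by
    intro p hp q hq hpq
    simp only [okPair, Bool.and_eq_true, Bool.or_eq_true, Bool.not_eq_true', Bool.and_eq_false_iff,
      bne_iff_ne, beq_iff_eq, bne_eq_false_iff_eq, beq_eq_false_iff_ne]
    refine ⟨⟨?_, ?_⟩, ?_⟩
    · by_cases h : q ≠ 23 ∧ (s p).1 % q = 0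
      · exact Or.inr (Nat.mod_eq_zero_of_dvd (hbig p hp q hq h.1 (Nat.dvd_of_mod_eq_zero h.2)))
      · left; tauto
    · by_cases h : (s p).1 % q = 0
      · exact Or.inr (Nat.mod_eq_zero_of_dvd (hsymm p hp q hq (Nat.dvd_of_mod_eq_zero h)))
      · left; exact h
    · by_cases h : q ≠ 23 ∧ (s p).1 = p * q ∧ (s q).1 = p * q
      · right
        obtain ⟨y, hy, hc⟩ := hget p hp q hq (h.2.1 ▸ Dvd.intro_left p rfl)
        have hpp := bigs_prime p hp
        have hqp := bigs_prime q hq
        have hC2 := (hinv q hq y hy).1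
        have l1 := normalizer_le_normalizer hpp hqp hpq (hX p hp) hy hc h.2.1
        have l2 := normalizer_le_normalizer hqp hpp (Ne.symm hpq) hy (hX p hp) hc.symm
          (by rw [hC2, h.2.2, mul_comm])
        have hcard := card_normalizer_eq (X p)
        rw [le_antisymm l1 l2, card_normalizer_eq y, (hinv q hq y hy).2, hC2, h.2.2] at hcard
        have hh : (s p).2 * (p * q) = (s q).2 * (p * q) := by
          rw [hcard]; show _ = aut (X p) * (s p).1
          rw [h.2.1]
        exact Nat.eq_of_mul_eq_mul_right (Nat.mul_pos hpp.pos hqp.pos) hh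
      · left; tauto
  obtain ⟨a, b, c, d, e⟩ := solve h0 hok
  intro p hp x hx
  obtain ⟨i1, i2⟩ := hinv p hp x hx
  rw [i1, i2]
  simp only [bigs, List.mem_cons, List.not_mem_nil, or_false] at hp
  rcases hp with rfl | rfl | rfl | rfl | rfl <;> simp_all

/-- conclusion in the shape of Sylow subgroups -/
theorem sylow_conclusion (hN : Nat.card G = ordJ) (hS : SmallFree G) (w23 : Twisted G 23 2)
    (w31 : Twisted G 31 2) (w31' : Twisted G 31 30) {p e : ℕ} (hp : p ∈ bigs)
    (he : (if p = 23 then 22 else if p = 29 then 28 else if p = 31 then 10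
        else if p = 37 then 12 else 14) = e) (U : Sylow p G) :
    centralizer ((U : Subgroup G) : Set G) = (U : Subgroup G) ∧
      Nat.card (normalizer ((U : Subgroup G) : Set G)) = p * e := by
  have hpp := bigs_prime p hp
  haveI : Fact p.Prime := ⟨hpp⟩
  have hd : p ∣ Nat.card G := by
    have h : ∀ q ∈ bigs, q ∣ ordJ := by decide +kernel
    rw [hN]; exact h p hp
  obtain ⟨n, hn⟩ := U.2.exists_card_eq
  have hn1 : n = 1 := by
    have h1 : p ∣ Nat.card (U : Subgroup G) := U.dvd_card_of_dvd_card hd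
    have h2 : ¬ 2 ≤ n := fun h => not_sq_dvd hN hp
      ((pow_dvd_pow p h).trans (hn ▸ Subgroup.card_subgroup_dvd_card _))
    rcases n with _ | n
    · rw [hn, pow_zero, Nat.dvd_one] at h1; exact absurd h1 hpp.ne_one
    · omega
  rw [hn1, pow_one] at hn
  obtain ⟨u, hu⟩ := exists_prime_orderOf_dvd_card' p
    (show p ∣ Nat.card (U : Subgroup G) from hn.symm.dvd)
  have hu' : orderOf (u : G) = p := by rw [Subgroup.orderOf_coe]; exact hu
  have hU : zpowers (u : G) = (U : Subgroup G) :=
    Subgroup.eq_of_le_of_card_ge (zpowers_le.2 u.2) (by rw [hn, Nat.card_zpowers, hu'])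
  obtain ⟨h1, h2⟩ := sylow_facts hN hS w23 w31 w31' p hp (u : G) hu'
  rw [← hU]
  refine ⟨?_, by rw [card_normalizer_eq, h1, h2, he, mul_comm]⟩
  exact (Subgroup.eq_of_le_of_card_ge
    (zpowers_le.2 (mem_cent_zpowers.2 (Commute.refl _))) (by rw [h1, Nat.card_zpowers, hu'])).symm

end H19.J4Syl
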