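import Cfsg.Agent.H19.J4Sylow.Main
import Cfsg.Agent.H29.M22Facts.Model
import Cfsg.Agent.S5563
import Cfsg.Agent.S5564
import Cfsg.Agent.S5569
import Cfsg.Agent.S5572
import Cfsg.Agent.S5573

/-!
In a group of Janko-four type of the order of J4 no element of order 2, 3, 5 or 7 commutes with an
element of order 23, 29, 31, 37 or 43.
-/

set_option autoImplicit false
set_option linter.unusedSectionVars false
set_option linter.style.haveILetI false

namespace H19.J4Syl

open Subgroup

variable {G : Type*} [Group G] [Finite G]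

theorem card_autM22 : Nat.card (MulAut ↥Cfsg.Spor.M22) = 887040 := by
  rw [← H29.M22.card_A22]
  exact (Nat.card_congr H29.M22.autEquiv.toEquiv).symm

theorem card_cent_map {a b g : G} (h : g * a * g⁻¹ = b) :
    Nat.card (centralizer ({b} : Set G)) = Nat.card (centralizer ({a} : Set G)) := by
  subst h
  refine (Nat.card_congr ((MulAut.conj g : G ≃* G).toEquiv.subtypeEquiv ?_)).symm
  intro c
  rw [mem_centralizer_singleton_iff, mem_centralizer_singleton_iff]
  show c * a = a * c ↔ g * c * g⁻¹ * (g * a * g⁻¹) = g * a * g⁻¹ * (g * c * g⁻¹)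
  constructor
  · intro h
    calc g * c * g⁻¹ * (g * a * g⁻¹) = g * (c * a) * g⁻¹ := by group
      _ = g * (a * c) * g⁻¹ := by rw [h]
      _ = _ := by group
  · intro h
    have e1 : g * c * g⁻¹ * (g * a * g⁻¹) = g * (c * a) * g⁻¹ := by group
    have e2 : g * a * g⁻¹ * (g * c * g⁻¹) = g * (a * c) * g⁻¹ := by group
    rw [e1, e2] at h
    exact mul_left_cancel (mul_right_cancel h)

theorem card_cent_le {y : G} : centralizer (zpowers y : Set G) = centralizer ({y} : Set G) := by
  ext a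
  rw [mem_cent_zpowers, mem_centralizer_singleton_iff]
  exact ⟨fun h => h.symm, fun h => Commute.symm h⟩

theorem card_cent_z {z : G} {P : Subgroup G} (hP : Cfsg.IsOfJankoFourTypeWith z P) :
    Nat.card (centralizer ({z} : Set G)) = 2 ^ 13 * 3 * 887040 := by
  obtain ⟨-, -, hE, -, ⟨N, -, hNH, -, hN, ⟨hn, ⟨e⟩⟩, -⟩, -⟩ := hP
  haveI := hn
  rw [← Subgroup.card_mul_index (N.subgroupOf (centralizer ({z} : Set G))),
    Nat.card_congr (subgroupOfEquivOfLe hNH).toEquiv, Subgroup.index_eq_card,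
    Nat.card_congr e.toEquiv, hN, hE, card_autM22, mul_comm 3]

theorem card_cent_other [IsSimpleGroup G] (hG : ¬ IsMulCommutative G) {z : G}
    (hJ : Cfsg.IsOfJankoFourTypeAt z) {t : G} (ht : orderOf t = 2) (hnc : ¬ IsConj z t) :
    Nat.card (centralizer ({t} : Set G)) ∣ 2 ^ 11 * 887040 := by
  obtain ⟨V, K, hV, hK, hn, -, hVc, -, hsup, ⟨e⟩⟩ := Cfsg.Agent.S5569.result hG z hJ t ht hnc
  let C := centralizer ({t} : Set G)
  haveI : (V.subgroupOf C).Normal := (Subgroup.normal_subgroupOf_iff_le_normalizer hV).2 hn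
  have hs : K.subgroupOf C ⊔ V.subgroupOf C = ⊤ := by
    rw [← Subgroup.subgroupOf_sup hK hV, hsup, Subgroup.subgroupOf_self]
  have hi := Subgroup.relIndex_sup_right (K := V.subgroupOf C) (H := K.subgroupOf C)
  rw [hs, Subgroup.relIndex_top_right] at hi
  show Nat.card C ∣ _
  rw [← Subgroup.card_mul_index (V.subgroupOf C), Nat.card_congr (subgroupOfEquivOfLe hV).toEquiv,
    hVc, hi]
  refine mul_dvd_mul_left _ ((Subgroup.relIndex_dvd_card _ _).trans ?_)
  rw [Nat.card_congr (subgroupOfEquivOfLe hK).toEquiv, Nat.card_congr e.toEquiv, card_autM22]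

theorem smallFree [IsSimpleGroup G] (hG : ¬ IsMulCommutative G)
    (hJ : Cfsg.IsOfJankoFourType G) (hN : Nat.card G = ordJ) : SmallFree G := by
  obtain ⟨z, hz⟩ := hJ
  obtain ⟨P, hP⟩ := id hz
  intro p hp r hr x y hx hy hc
  have hpp := bigs_prime p hp
  have hcz := card_cent_z hP
  -- `p` divides the order of the centraliser of `y`
  have hpd : p ∣ Nat.card (centralizer ({y} : Set G)) := by
    rw [← hx]
    exact Subgroup.orderOf_dvd_natCard _ (mem_centralizer_singleton_iff.2 hc)
  have fin : ∀ n, p ∣ n → n ∣ 2 ^ 13 * 3 * 887040 * (2 ^ 8 * 3 * 5 * 7) * (2 ^ 3 * 3 ^ 2 * 5 * 7) →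
      False := by
    have key : ∀ q ∈ bigs, ¬ q ∣
        2 ^ 13 * 3 * 887040 * (2 ^ 8 * 3 * 5 * 7) * (2 ^ 3 * 3 ^ 2 * 5 * 7) := by decide +kernel
    exact fun n h1 h2 => key p hp (h1.trans h2)
  -- the local normalisers at 5 and 7
  have local57 : ∀ s n : ℕ, s.Prime → s ∣ Nat.card (centralizer ({z} : Set G)) → ¬ s ^ 2 ∣ Nat.card G →
      (∀ Q : Subgroup G, Nat.card Q = s → Q ≤ centralizer ({z} : Set G) →
        Nat.card (normalizer (Q : Set G)) = n) →
      orderOf y = s → p ∣ n := by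
    intro s n hs hsd hs2 hQ hys
    haveI : Fact s.Prime := ⟨hs⟩
    obtain ⟨q, hq⟩ := exists_prime_orderOf_dvd_card' s hsd
    have hq' : orderOf (q : G) = s := by rw [Subgroup.orderOf_coe]; exact hq
    obtain ⟨g, hg⟩ := exists_conj hs2 hys hq'
    have h := (conj_invariants g hg).1
    rw [card_cent_le] at h
    rw [h] at hpd
    rw [← hQ (zpowers (q : G)) (by rw [Nat.card_zpowers, hq']) (zpowers_le.2 q.2)]
    exact hpd.trans (Subgroup.card_dvd_of_le (Subgroup.centralizer_le_normalizer _))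
  simp only [List.mem_cons, List.not_mem_nil, or_false] at hr
  rcases hr with rfl | rfl | rfl | rfl
  · by_cases hcj : IsConj z y
    · obtain ⟨g, hg⟩ := isConj_iff.1 hcj
      rw [card_cent_map hg, hcz] at hpd
      exact fin _ hpd (Dvd.intro _ (mul_assoc _ _ _).symm)
    · exact fin _ (hpd.trans (card_cent_other hG hz hy hcj))
        (by decide +kernel)
  · obtain ⟨w, hw⟩ : ∃ w : P, orderOf w = 3 := by
      haveI : Fact (Nat.Prime 3) := ⟨Nat.prime_three⟩
      exact exists_prime_orderOf_dvd_card' 3 (by rw [hP.2.2.2.2.2.1])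
    have hw' : orderOf (w : G) = 3 := by rw [Subgroup.orderOf_coe]; exact hw
    obtain ⟨g, hg⟩ := isConj_iff.1 (Cfsg.Agent.S5564.result hG ⟨z, hz⟩ y (w : G) hy hw')
    rw [← card_cent_map hg] at hpd
    have hPw : zpowers (w : G) = P :=
      Subgroup.eq_of_le_of_card_ge (zpowers_le.2 w.2) (by rw [hP.2.2.2.2.2.1, Nat.card_zpowers, hw'])
    have hle : centralizer ({(w : G)} : Set G) ≤ centralizer ({z} : Set G) := by
      rw [← card_cent_le, hPw]
      exact (Subgroup.centralizer_le_normalizer _).trans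
        (Cfsg.Agent.S5563.result hG z P hP).2.2.2.2
    have h := hpd.trans (Subgroup.card_dvd_of_le hle)
    rw [hcz] at h
    exact fin _ h (Dvd.intro _ (mul_assoc _ _ _).symm)
  · exact fin _ (local57 5 _ (by norm_num) (by rw [hcz]; decide +kernel)
      (by rw [hN]; decide +kernel)
      (fun Q h1 h2 => (Cfsg.Agent.S5572.result hG z hz Q h1 h2).2.2.2) hy)
      (by decide +kernel)
  · exact fin _ (local57 7 _ (by norm_num) (by rw [hcz]; decide +kernel)
      (by rw [hN]; decide +kernel)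
      (fun Q h1 h2 => (Cfsg.Agent.S5573.result hG z hz Q h1 h2).2.2.2) hy)
      (by decide +kernel)

end H19.J4Syl
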